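import Groth.Agent.CIProj49.Sheaf
import Groth.Agent.VarDim.Algebra

/-!
# Global complete intersections in projective space are equidimensional
-/

set_option autoImplicit false
set_option linter.style.haveILetI false

universe u

open CategoryTheory CategoryTheory.Limits AlgebraicGeometry TopologicalSpace Topology

noncomputable section

namespace Groth.Agent.CIEquidim

open Groth.Agent.CIProj49
open Groth.Agent.SepTang48 (D isAffineOpen_D)
open Groth.Agent.LefHyp (setOne)

/-- Every component of an intersection of `r` hypersurfaces in `ℙⁿ` has dimension at least `n - r`. -/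
theorem le_dim_component {k : Type u} [Field k] {n r : ℕ} {a : Fin r → ℕ}
    (G : ∀ j : Fin r, LefPen.Form n k (a j)) (Z : Set (LefPen.ciIdeal G).subscheme)
    (hZ : Z ∈ irreducibleComponents (LefPen.ciIdeal G).subscheme) :
    ((n - r : ℕ) : WithBot ℕ∞) ≤ topologicalKrullDim Z := by
  classical
  let I := LefPen.ciIdeal G
  have hZc : IsClosed Z := isClosed_of_mem_irreducibleComponents Z hZ
  have hZi : IsIrreducible Z := hZ.1
  let ξ := hZi.genericPoint
  have hξ : IsGenericPoint ξ Z := by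
    have := hZi.isGenericPoint_genericPoint_closure
    rwa [hZc.closure_eq] at this
  obtain ⟨j, hj⟩ := Opens.mem_iSup.1 ((ProjTwist.iSup_stdOpen n k).ge (Opens.mem_top (I.subschemeι ξ)))
  let U : (CohB1.ProjSpace n k).affineOpens := ⟨D k n j, isAffineOpen_D k n j⟩
  let V := I.subschemeι ⁻¹ᵁ U.1
  have hV : IsAffineOpen V := U.2.preimage I.subschemeι
  have hξV : ξ ∈ V := hj
  let J := Ideal.span (Set.range fun i => setOne j (G i).1)
  let e₁ := Ideal.quotientEquiv J (I.ideal U) (chartRingEquiv j) (ciIdeal_ideal G j)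
  let e₂ : (Γ(CohB1.ProjSpace n k, U.1) ⧸ I.ideal U) ≃+* Γ(I.subscheme, V) :=
    (I.subschemeObjIso U).commRingCatIsoToRingEquiv.symm
  let π : MvPolynomial (Fin n) k →+* Γ(I.subscheme, V) := (e₁.trans e₂).toRingHom.comp (Ideal.Quotient.mk J)
  have hπ : Function.Surjective π := (e₁.trans e₂).surjective.comp Ideal.Quotient.mk_surjective
  have hkerπ : RingHom.ker π = J := by
    ext x
    rw [RingHom.mem_ker]
    show (e₁.trans e₂) (Ideal.Quotient.mk J x) = 0 ↔ _
    rw [map_eq_zero_iff _ (e₁.trans e₂).injective, Ideal.Quotient.eq_zero_iff_mem]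
  let p := hV.primeIdealOf ⟨ξ, hξV⟩
  have hp : hV.fromSpec p = ξ := hV.fromSpec_primeIdealOf ⟨ξ, hξV⟩
  have hmin : ∀ p' : PrimeSpectrum Γ(I.subscheme, V), p'.asIdeal ≤ p.asIdeal → p' = p := by
    intro p' hle
    let p₁ : ↥(Spec Γ(I.subscheme, V)) := p'
    have h1 : p₁ ⤳ p := (PrimeSpectrum.le_iff_specializes p' p).1 hle
    have h2 : hV.fromSpec p₁ ⤳ ξ := hp ▸ h1.map hV.fromSpec.continuous
    have h3 : Z ⊆ closure {hV.fromSpec p₁} := by
      rw [← hξ.def]
      exact h2.closure_subset
    have h4 : closure {hV.fromSpec p₁} ⊆ Z :=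
      hZ.2 (isIrreducible_singleton.closure) h3
    have h5 : IsGenericPoint (hV.fromSpec p₁) Z := le_antisymm h4 h3
    exact hV.fromSpec.isOpenEmbedding.injective ((h5.eq hξ).trans hp.symm)
  let q := p.asIdeal.comap π
  haveI : q.IsPrime := Ideal.comap_isPrime _ _
  have hq : q ∈ J.minimalPrimes := by
    refine ⟨⟨inferInstance, fun x hx => ?_⟩, fun q' ⟨hq'p, hJq'⟩ hq'q => ?_⟩
    · show π x ∈ p.asIdeal
      rw [show π x = 0 from RingHom.mem_ker.1 (hkerπ.ge hx)]
      exact zero_mem _
    · haveI := hq'p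
      haveI : (q'.map π).IsPrime := Ideal.map_isPrime_of_surjective hπ (hkerπ.le.trans hJq')
      have hle : (⟨q'.map π, inferInstance⟩ : PrimeSpectrum _).asIdeal ≤ p.asIdeal :=
        Ideal.map_le_iff_le_comap.2 hq'q
      have he : q'.map π = p.asIdeal := congrArg PrimeSpectrum.asIdeal (hmin _ hle)
      show p.asIdeal.comap π ≤ q'
      rw [← he, Ideal.comap_map_of_surjective π hπ, ← RingHom.ker_eq_comap_bot, hkerπ]
      exact sup_le le_rfl hJq'
  have hht : q.height ≤ r := by
    refine (Ideal.height_le_card_of_mem_minimalPrimes_span (Set.finite_range _) hq).trans ?_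
    rw [← Nat.card_coe_set_eq]
    exact_mod_cast (Finite.card_range_le _).trans (Nat.card_fin r).le
  have hdimq : ((n - r : ℕ) : WithBot ℕ∞) ≤ ringKrullDim (MvPolynomial (Fin n) k ⧸ q) := by
    have h := VarDim.ringKrullDim_quotient_add_height k (MvPolynomial (Fin n) k) q
    rw [MvPolynomial.ringKrullDim_of_isNoetherianRing, ringKrullDim_eq_zero_of_field, zero_add,
      Nat.card_eq_fintype_card, Fintype.card_fin] at h
    haveI : Nontrivial (MvPolynomial (Fin n) k ⧸ q) := Ideal.Quotient.nontrivial_iff.2 (Ideal.IsPrime.ne_top ‹_›)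
    obtain ⟨m, hm⟩ := ENat.ne_top_iff_exists.mp (q.height_ne_top (Ideal.IsPrime.ne_top ‹_›))
    rw [← hm] at h hht
    have hm' : m ≤ r := by exact_mod_cast hht
    generalize ringKrullDim (MvPolynomial (Fin n) k ⧸ q) = D at h ⊢
    cases D with
    | bot => simp at h
    | coe D =>
      cases D with
      | top => simp at h ⊢
      | coe D =>
        have h' : D + m = n := by exact_mod_cast h
        show (((n - r : ℕ) : ℕ∞) : WithBot ℕ∞) ≤ (((D : ℕ) : ℕ∞) : WithBot ℕ∞)
        exact WithBot.coe_le_coe.2 (Nat.cast_le.2 (by omega))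
  refine hdimq.trans ?_
  rw [← PrimeSpectrum.topologicalKrullDim_eq_ringKrullDim]
  let ρ : Γ(I.subscheme, V) →+* MvPolynomial (Fin n) k ⧸ q :=
    RingHom.liftOfSurjective π hπ ⟨Ideal.Quotient.mk q, fun x hx => Ideal.Quotient.eq_zero_iff_mem.2 (by
      show π x ∈ p.asIdeal
      rw [RingHom.mem_ker.1 hx]
      exact zero_mem _)⟩
  have hρπ : ∀ x, ρ (π x) = Ideal.Quotient.mk q x := fun x =>
    RingHom.liftOfRightInverse_comp_apply _ _ _ _ x
  have hρ : Function.Surjective ρ := fun y => by
    obtain ⟨x, rfl⟩ := Ideal.Quotient.mk_surjective y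
    exact ⟨π x, hρπ x⟩
  let g : PrimeSpectrum (MvPolynomial (Fin n) k ⧸ q) → I.subscheme := fun P =>
    hV.fromSpec (show ↥(Spec Γ(I.subscheme, V)) from PrimeSpectrum.comap ρ P)
  have hg : IsInducing g := hV.fromSpec.isOpenEmbedding.isInducing.comp
    (PrimeSpectrum.isClosedEmbedding_comap_of_surjective _ _ hρ).isInducing
  have hmem : ∀ P, g P ∈ Z := by
    intro P
    rw [← hξ.def, ← hp]
    let P₁ : ↥(Spec Γ(I.subscheme, V)) := PrimeSpectrum.comap ρ P
    have hle : p.asIdeal ≤ (PrimeSpectrum.comap ρ P).asIdeal := by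
      intro y hy
      obtain ⟨x, rfl⟩ := hπ y
      show ρ (π x) ∈ P.asIdeal
      rw [hρπ, Ideal.Quotient.eq_zero_iff_mem.2 (show x ∈ q from hy)]
      exact zero_mem _
    have h1 : p ⤳ P₁ := (PrimeSpectrum.le_iff_specializes p (PrimeSpectrum.comap ρ P)).1 hle
    exact (h1.map hV.fromSpec.continuous).mem_closure
  exact IsInducing.topologicalKrullDim_le (hg.codRestrict hmem)

end Groth.Agent.CIEquidim

end
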